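import Groth.Agent.FlatTwist.Sections
import Groth.Agent.Flatmor4.FlatModAffine
import Groth.Agent.CohBase.FibreConsequences
import Groth.Agent.PnCoh.AmpleVanishing
import Groth.Agent.Ega2Proj.RelAmple
import Groth.Agent.LocFree.Affine
import Groth.Agent.RefRank.Divisor
import Groth.Agent.RefRank.BigOpen
import Groth.Agent.SiteCohomology.SchemeModules
import Groth.Prelude.Def_LCI2

/-!
# Flatness over the base and direct images of high twists by a relatively ample module
-/

set_option autoImplicit false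

universe u

open CategoryTheory Limits AlgebraicGeometry Opposite TopologicalSpace
open Groth.PicAux

namespace Groth.FlatTwist

variable {X Y : Scheme.{u}} (f : X ⟶ Y) {L : X.Modules}

/-- The functions on `V` as global functions on `f⁻¹V`. -/
noncomputable def pullFun (V : Y.Opens) : Γ(Y, V) →+* Γ((f ⁻¹ᵁ V : X.Opens).toScheme, ⊤) :=
  (f ⁻¹ᵁ V).topIso.inv.hom.comp (f.app V).hom

theorem resX_pullFun (V : Y.Opens) (W : (f ⁻¹ᵁ V : X.Opens).toScheme.Opens) (a : Γ(Y, V))
    (e : (f ⁻¹ᵁ V).ι ''ᵁ W ≤ f ⁻¹ᵁ V) :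
    (resX (f ⁻¹ᵁ V : X.Opens).toScheme (le_top : W ≤ ⊤) (pullFun f V a) :
      Γ(X, (f ⁻¹ᵁ V).ι ''ᵁ W)) = resX X e (f.app V a) := by
  let U := f ⁻¹ᵁ V
  have h1 : (pullFun f V a : Γ(X, U.ι ''ᵁ ⊤)) =
      resX X U.ι_image_top.le (f.app V a) := by
    simp only [pullFun, RingHom.coe_comp, Function.comp_apply, Scheme.Opens.topIso_inv]
    rfl
  change resX X (U.ι.image_mono le_top) (pullFun f V a : Γ(X, U.ι ''ᵁ ⊤)) = _
  rw [h1, resX_resX]

/-- Sections of a direct image over `V` are the global sections over `f⁻¹V`. -/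
theorem nonempty_push_sections (M : X.Modules) (V : Y.Opens) :
    letI := secModule (pullFun f V) (M.restrict (f ⁻¹ᵁ V).ι) ⊤
    Nonempty (Γ((Coh.push f).obj M, V) ≃ₗ[Γ(Y, V)] Γ(M.restrict (f ⁻¹ᵁ V).ι, ⊤)) := by
  let U := f ⁻¹ᵁ V
  letI := secModule (pullFun f V) (M.restrict U.ι) ⊤
  let r : Γ((Coh.push f).obj M, V) →ₗ[Γ(Y, V)] Γ(M.restrict U.ι, ⊤) :=
    { toFun := fun x => (res M U.ι_image_top.le (x : Γ(M, U)) : Γ(M, U.ι ''ᵁ ⊤))
      map_add' := fun a b => map_add (M.presheaf.map (homOfLE U.ι_image_top.le).op).hom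
        (a : Γ(M, U)) (b : Γ(M, U))
      map_smul' := fun a x => by
        refine Eq.trans (res_smul (M := M) U.ι_image_top.le (f.app V a) (x : Γ(M, U))) ?_
        refine Eq.trans ?_ (restrict_smul U ⊤ _ _).symm
        exact congrArg (fun r : Γ(X, U.ι ''ᵁ ⊤) =>
          r • res M U.ι_image_top.le (x : Γ(M, U))) (resX_pullFun f V ⊤ a U.ι_image_top.le).symm }
  refine ⟨LinearEquiv.ofBijective r
    ⟨fun a b hab => ?_, fun y => ⟨res M U.ι_image_top.ge (y : Γ(M, U.ι ''ᵁ ⊤)), ?_⟩⟩⟩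
  · have h2 : res M U.ι_image_top.ge (res M U.ι_image_top.le (a : Γ(M, U))) =
        res M U.ι_image_top.ge (res M U.ι_image_top.le (b : Γ(M, U))) :=
      congrArg (res M U.ι_image_top.ge) hab
    rwa [res_res, res_res, res_self, res_self] at h2
  · change res M U.ι_image_top.le (res M U.ι_image_top.ge (y : Γ(M, U.ι ''ᵁ ⊤))) = y
    rw [res_res, res_self]

/-- If the direct images of high twists by a relatively ample module have flat sections on the
affine open `V`, then the module is flat over the base above `V`. -/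
theorem isFlatOverAt_of_push [QuasiCompact f] [QuasiSeparated f]
    (hL : RelAmple.IsRelAmple f L) (F : X.Modules) [F.IsQuasicoherent] {V : Y.Opens}
    (hV : IsAffineOpen V)
    (h : ∃ N : ℕ, ∀ n : ℕ, N ≤ n →
      Module.Flat Γ(Y, V) Γ((Coh.push f).obj (CohB1.tensorMod F (CohB1.tensorPow L n)), V))
    (x : X) (hx : f x ∈ V) : FlatMod.IsFlatOverAt f F x := by
  let U := f ⁻¹ᵁ V
  let G := F.restrict U.ι
  let LU := L.restrict U.ι
  have hA : CohB1.IsAmple LU := hL.2 ⟨V, hV⟩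
  have : CompactSpace (U : Scheme.{u}) :=
    isCompact_iff_compactSpace.mp (QuasiCompact.isCompact_preimage _ V.2 hV.isCompact)
  have : QuasiSeparatedSpace (U : Scheme.{u}) := by
    have : QuasiSeparated (CohBase.preimageToSpec f (V := V)) :=
      MorphismProperty.of_isPullback (CohBase.isPullback_preimageToSpec f hV) ‹QuasiSeparated f›
    exact quasiSeparatedSpace_of_quasiSeparated (CohBase.preimageToSpec f (V := V))
  obtain ⟨k, σ, hxσ, hσ⟩ := hA.2.2 ⟨x, hx⟩
  have hP := isInvertible_tensorPow hA.1 (k + 1)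
  obtain ⟨N, hN⟩ := h
  let φ := pullFun f V
  have hflat := flat_sections_genLocus (φ := φ) σ hP G ⟨N, fun m hm => ?_⟩
  · let W := CohB1.genLocus (CohB1.tensorPow LU (k + 1)) σ
    have e : U.ι ''ᵁ W ≤ f ⁻¹ᵁ V := U.ι_image_le W
    letI := secModule φ G W
    letI := Flatmor4.sectionModule f F e
    have hW : IsAffineOpen (U.ι ''ᵁ W) := hσ.image_of_isOpenImmersion _
    refine (Flatmor4.flat_sections_iff f F hW hV e).1 ?_ x ⟨⟨x, hx⟩, hxσ, rfl⟩
    let E : Γ(F, U.ι ''ᵁ W) ≃ₗ[Γ(Y, V)] Γ(G, W) :=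
      { AddEquiv.refl (Γ(F, U.ι ''ᵁ W) : Type u) with
        map_smul' := fun a y => by
          change (f.appLE V (U.ι ''ᵁ W) e a • y : Γ(F, U.ι ''ᵁ W)) = _
          refine Eq.trans ?_ (restrict_smul U W _ _).symm
          exact congrArg (fun r : Γ(X, U.ι ''ᵁ W) => r • y) (resX_pullFun f V W a e).symm }
    exact Module.Flat.of_linearEquiv E
  · obtain ⟨e₁⟩ := tensorPow_mul LU (k + 1) m
    obtain ⟨e₂⟩ := Ega2Proj.exists_tensorPow_restrict (L := L) U.ι ((k + 1) * m)
    obtain ⟨e₃⟩ := Ega2Proj.exists_tensorMod_restrict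
      (L := F) (M := CohB1.tensorPow L ((k + 1) * m)) U.ι
    let e₄ : (CohB1.tensorMod F (CohB1.tensorPow L ((k + 1) * m))).restrict U.ι ≅
        CohB1.tensorMod G (CohB1.tensorPow (CohB1.tensorPow LU (k + 1)) m) :=
      e₃ ≪≫ PicGrp.tensorModIso (Iso.refl G) (e₂ ≪≫ e₁)
    have : Module.Flat Γ(Y, V)
        Γ((Coh.push f).obj (CohB1.tensorMod F (CohB1.tensorPow L ((k + 1) * m))), V) :=
      hN _ (hm.trans (Nat.le_mul_of_pos_left m (Nat.succ_pos k)))
    obtain ⟨e₀⟩ := nonempty_push_sections f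
      (CohB1.tensorMod F (CohB1.tensorPow L ((k + 1) * m))) V
    letI := secModule φ ((CohB1.tensorMod F (CohB1.tensorPow L ((k + 1) * m))).restrict U.ι) ⊤
    letI := secModule φ (CohB1.tensorMod G (CohB1.tensorPow (CohB1.tensorPow LU (k + 1)) m)) ⊤
    exact Module.Flat.of_linearEquiv ((e₀.trans (isoLin φ e₄ ⊤)).symm)

/-- A module is flat over the base if the direct images of its high twists by a relatively ample
module are finite locally free. -/
theorem isFlatOver_of_push_finLocFree [QuasiCompact f] [QuasiSeparated f]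
    (hL : RelAmple.IsRelAmple f L) (F : X.Modules) [F.IsQuasicoherent]
    (h : ∃ N : ℕ, ∀ n : ℕ, N ≤ n →
      FlatMod.IsFinLocFree ((Coh.push f).obj (CohB1.tensorMod F (CohB1.tensorPow L n)))) :
    FlatMod.IsFlatOver f F := by
  obtain ⟨N, hN⟩ := h
  intro x
  obtain ⟨V, hV, hxV, -⟩ :=
    exists_isAffineOpen_mem_and_subset (x := f x) (U := (⊤ : Y.Opens)) trivial
  refine isFlatOverAt_of_push f hL F hV ⟨N, fun n hn => ?_⟩ x hxV
  have := LocFree.projective_sections (hN n hn) hV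
  infer_instance

variable {f}

/-- Twisting by an invertible module preserves flatness over the base. -/
theorem isFlatOver_tensorMod {P : X.Modules} (hP : PicF.IsInvertible P) {F : X.Modules}
    [F.IsQuasicoherent] (hF : FlatMod.IsFlatOver f F) :
    FlatMod.IsFlatOver f (CohB1.tensorMod F P) := by
  have := isQCoh_of_isInvertible hP
  have : (CohB1.tensorMod F P).IsQuasicoherent := QCohMod.isQCoh_tensorMod
  intro x
  obtain ⟨V, hV, hxV, -⟩ :=
    exists_isAffineOpen_mem_and_subset (x := f x) (U := (⊤ : Y.Opens)) trivial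
  obtain ⟨U₀, e₀, hU₀, hxU₀, he₀⟩ := exists_affine_gen_mem hP x
  obtain ⟨U, hU, hxU, hUle⟩ :=
    exists_isAffineOpen_mem_and_subset (x := x) (U := U₀ ⊓ f ⁻¹ᵁ V) ⟨hxU₀, hxV⟩
  have hle : U ≤ U₀ := fun z hz => (hUle hz).1
  have e : U ≤ f ⁻¹ᵁ V := fun z hz => (hUle hz).2
  letI := Flatmor4.sectionModule f F e
  letI := Flatmor4.sectionModule f (CohB1.tensorMod F P) e
  have hflat : Module.Flat Γ(Y, V) Γ(F, U) :=
    (Flatmor4.isFlatOver_iff_affine f F).1 hF U V e hU hV
  let T : Γ(F, U) →ₗ[Γ(Y, V)] Γ(CohB1.tensorMod F P, U) :=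
    { toFun := fun t => tmulSec t (res P hle e₀)
      map_add' := fun a b => tmulSec_add_left a b _
      map_smul' := fun a b => tmulSec_smul_left _ b _ }
  refine (Flatmor4.flat_sections_iff f _ hU hV e).1 ?_ x hxU
  exact Module.Flat.of_linearEquiv
    (LinearEquiv.ofBijective T (tmulSec_bijective he₀ F hle)).symm

/-- Over a Noetherian base the direct images of high twists of a flat coherent module by a
relatively ample module are finite locally free. -/
theorem exists_push_finLocFree [IsProper f] [IsNoetherian Y] (hL : RelAmple.IsRelAmple f L)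
    (F : X.Modules) (hF : Coh.IsCoh F) (hfl : FlatMod.IsFlatOver f F) :
    ∃ N : ℕ, ∀ n : ℕ, N ≤ n →
      FlatMod.IsFinLocFree ((Coh.push f).obj (CohB1.tensorMod F (CohB1.tensorPow L n))) := by
  classical
  have := hF.1
  have : IsLocallyNoetherian X := LocallyOfFiniteType.isLocallyNoetherian f
  have hLi := Ega2Proj.isInvertible_of_isRelAmple hL
  have hpow : ∀ n : ℕ, Coh.IsCoh (CohB1.tensorPow L n) := fun n =>
    ⟨isQCoh_of_isInvertible (isInvertible_tensorPow hLi n),
      Ega2Proj.isFT_of_isInvertible (isInvertible_tensorPow hLi n)⟩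
  have hVan : ∀ V : Y.affineOpens, ∃ N : ℕ, ∀ n : ℕ, N ≤ n → ∀ q : ℕ, 0 < q →
      Subsingleton (Coh.HH (f ⁻¹ᵁ V.1 : X.Opens)
        ((CohB1.tensorMod F (CohB1.tensorPow L n)).restrict (f ⁻¹ᵁ V.1).ι) q) := by
    intro V
    let U := f ⁻¹ᵁ V.1
    let q := CohBase.preimageToSpec f (V := V.1)
    have : IsNoetherianRing Γ(Y, V.1) := IsLocallyNoetherian.component_noetherian V
    have : IsProper q :=
      MorphismProperty.of_isPullback (CohBase.isPullback_preimageToSpec f V.2) ‹IsProper f›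
    obtain ⟨N, hN⟩ := PnCoh.exists_subsingleton_of_isAmple q (hL.2 V) (F.restrict U.ι)
      (CohFin.isCoh_restrict hF U)
    refine ⟨N, fun n hn p hp => ?_⟩
    obtain ⟨e₂⟩ := Ega2Proj.exists_tensorPow_restrict (L := L) U.ι n
    obtain ⟨e₃⟩ := Ega2Proj.exists_tensorMod_restrict
      (L := F) (M := CohB1.tensorPow L n) U.ι
    exact PnCoh.subsingleton_HH_of_iso q
      (e₃ ≪≫ PicGrp.tensorModIso (Iso.refl _) e₂).symm (hN n hn p hp)
  choose N hN using hVan
  choose B hB hyB _ using fun y : Y =>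
    exists_isAffineOpen_mem_and_subset (x := y) (U := (⊤ : Y.Opens)) trivial
  obtain ⟨t, ht⟩ := isCompact_univ.elim_finite_subcover (fun y => (B y : Set Y))
    (fun y => (B y).2) (fun y _ => Set.mem_iUnion.2 ⟨y, hyB y⟩)
  refine ⟨t.sup fun y => N ⟨B y, hB y⟩, fun n hn y => ?_⟩
  obtain ⟨z, hz, hyz⟩ := Set.mem_iUnion₂.1 (ht (Set.mem_univ y))
  let V := B z
  let M := CohB1.tensorMod F (CohB1.tensorPow L n)
  have hM : Coh.IsCoh M := RefRank.isCoh_tensorMod hF (hpow n)
  have := hM.1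
  have hMfl : FlatMod.IsFlatOver f M :=
    isFlatOver_tensorMod (isInvertible_tensorPow hLi n) hfl
  obtain ⟨C, hC⟩ := CohBase.exists_isModel f M (hB z) hM hMfl
  have := hC.flat
  have hH : ∀ j : ℤ, 1 ≤ j → Subsingleton (CohBase.CxRank.Hk C j) := by
    intro j hj
    obtain ⟨q, rfl⟩ : ∃ q : ℕ, j = q := ⟨j.toNat, by omega⟩
    obtain ⟨e⟩ := hC.sections q
    obtain ⟨e'⟩ := CohBase.exists_Rpush_linEquiv f (M := M) q (hB z)
    have := hN ⟨V, hB z⟩ n ((Finset.le_sup (f := fun y => N ⟨B y, hB y⟩) hz).trans hn) q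
      (by omega)
    have : Subsingleton Γ((Coh.Rpush f q).obj M, V) := e'.toEquiv.subsingleton
    exact e.symm.toEquiv.subsingleton
  obtain ⟨b, hb⟩ := hC.bdd
  have hQ := CohBase.CxRank.flat_Qc_of_flat_Hk C b hb 1 fun j hj =>
    have := hH j hj
    inferInstance
  obtain ⟨O, hyO, ⟨e⟩⟩ :=
    (hC.exists_iso_free (hB z) hM 0 hC.flat_Qc_zero (hQ 1 le_rfl)).2 y hyz
  exact ⟨O, _, hyO, ⟨(Scheme.Modules.restrictFunctor O.ι).mapIso
    ((Coh.push f).rightDerivedZeroIsoSelf.app M).symm ≪≫ e⟩⟩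

end Groth.FlatTwist
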