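import Groth.Agent.PicAux.TwistExtend
import Groth.Agent.PicAux.Powers
import Groth.Agent.PicAux.TensorLift
import Groth.Agent.PropsBasic.AmpleSec
import Groth.Agent.ProjFormula.TensorBasis
import Groth.Agent.QCohMod.Tensor
import Groth.Agent.CohBase.RpushAffineLin
import Mathlib.RingTheory.Flat.EquationalCriterion

/-!
# Flatness of sections over `X_s` from flatness of the global sections of high twists

If `Γ(X, G ⊗ L^n)` is flat over `A` for all large `n` then so is `Γ(X_s, G)`.
-/

set_option autoImplicit false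

universe u

open CategoryTheory AlgebraicGeometry Opposite TopologicalSpace
open Groth.PicAux

namespace Groth.FlatTwist

variable {X : Scheme.{u}}

/-- Tensoring with a generator is bijective on sections. -/
theorem tmulSec_bijective {L : X.Modules} {U : X.Opens} {e : Γ(L, U)} (he : Gen L U e)
    (G : X.Modules) {V : X.Opens} (h : V ≤ U) :
    Function.Bijective fun t : Γ(G, V) => tmulSec t (res L h e) := by
  have hs : Basis' L U (fun _ : Fin 1 => e) := fun W hW => by
    have e1 : (fun r : Fin 1 → Γ(X, W) => ∑ i, r i • res L hW e) =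
        (fun r : Γ(X, W) => r • res L hW e) ∘ Equiv.funUnique (Fin 1) Γ(X, W) := by
      funext r
      simp
    rw [e1]
    exact (he W hW).comp (Equiv.bijective _)
  have h1 := ProjFormula.tsum_bijective (M := G) hs h
  obtain ⟨b, hb⟩ := exists_braiding L G
  have e2 : (fun t : Γ(G, V) => tmulSec t (res L h e)) =
      (b.hom.app V : _ → _) ∘ ProjFormula.tsum (M := G) (fun _ : Fin 1 => e) h ∘
        (Equiv.funUnique (Fin 1) Γ(G, V)).symm := by
    funext t
    simp [ProjFormula.tsum, hb]
  rw [e2]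
  exact (ConcreteCategory.bijective_of_isIso (b.hom.app V)).comp (h1.comp (Equiv.bijective _))

variable {L : X.Modules} (s : Coh.structureModule X ⟶ L)

/-- `t ↦ t ⊗ sⁿ`. -/
noncomputable def tw (G : X.Modules) (n : ℕ) (U : X.Opens) (t : Γ(G, U)) :
    Γ(CohB1.tensorMod G (CohB1.tensorPow L n), U) :=
  tmulSec t (powSec (res L (le_top : U ≤ ⊤) (gsec s)) n)

theorem tw_eq (G : X.Modules) (n : ℕ) (U : X.Opens) (t : Γ(G, U)) :
    SecTwist.twist s n G U t = tw s G n U t :=
  twist_eq s n G U t

theorem twist_bijective (G : X.Modules) (n : ℕ) {V : X.Opens} (hV : V ≤ CohB1.genLocus L s) :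
    Function.Bijective (tw s G n V) := by
  have e : Gen L V (res L (le_top : V ≤ ⊤) (gsec s)) := (le_genLocus_iff s V).1 hV
  have := tmulSec_bijective (e.pow n) G (le_refl V)
  simp only [res_self] at this
  exact this

theorem res_tw (G : X.Modules) (n : ℕ) {V U : X.Opens} (h : V ≤ U) (t : Γ(G, U)) :
    res _ h (tw s G n U t) = tw s G n V (res G h t) := by
  simp only [tw, res_tmulSec, res_powSec, res_res]

theorem tw_add (G : X.Modules) (n : ℕ) (V : X.Opens) (a b : Γ(G, V)) :
    tw s G n V (a + b) = tw s G n V a + tw s G n V b :=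
  tmulSec_add_left _ _ _

theorem tw_smul (G : X.Modules) (n : ℕ) (V : X.Opens) (r : Γ(X, V)) (a : Γ(G, V)) :
    tw s G n V (r • a) = r • tw s G n V a :=
  tmulSec_smul_left _ _ _

variable {A : Type u} [CommRing A] (φ : A →+* Γ(X, ⊤))

/-- Sections as a module over a ring of global functions. -/
noncomputable abbrev secModule (G : X.Modules) (U : X.Opens) : Module A Γ(G, U) :=
  Module.compHom _ ((resX X (le_top : U ≤ ⊤)).comp φ)

/-- Restriction, linearly over a ring of global functions. -/
noncomputable def resLin (G : X.Modules) {U V : X.Opens} (h : V ≤ U) :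
    letI := secModule φ G U
    letI := secModule φ G V
    Γ(G, U) →ₗ[A] Γ(G, V) :=
  letI := secModule φ G U
  letI := secModule φ G V
  { toFun := res G h
    map_add' := res_add h
    map_smul' := fun a x => by
      change res G h (resX X (le_top : U ≤ ⊤) (φ a) • x) = resX X (le_top : V ≤ ⊤) (φ a) • res G h x
      rw [res_smul, resX_resX] }

/-- `t ↦ t ⊗ sⁿ`, linearly over a ring of global functions. -/
noncomputable def twistLin (G : X.Modules) (n : ℕ) (U : X.Opens) :
    letI := secModule φ G U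
    letI := secModule φ (CohB1.tensorMod G (CohB1.tensorPow L n)) U
    Γ(G, U) →ₗ[A] Γ(CohB1.tensorMod G (CohB1.tensorPow L n), U) :=
  letI := secModule φ G U
  letI := secModule φ (CohB1.tensorMod G (CohB1.tensorPow L n)) U
  { toFun := tw s G n U
    map_add' := tw_add s G n U
    map_smul' := fun _ x => tw_smul s G n U _ x }

/-- An isomorphism on sections, linearly over a ring of global functions. -/
noncomputable def isoLin {G H : X.Modules} (e : G ≅ H) (U : X.Opens) :
    letI := secModule φ G U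
    letI := secModule φ H U
    Γ(G, U) ≃ₗ[A] Γ(H, U) :=
  letI := secModule φ G U
  letI := secModule φ H U
  { (CohBase.isoSecEquiv e U).toAddEquiv with
    map_smul' := fun _ x => (CohBase.isoSecEquiv e U).map_smul _ x }

/-- All twists of `G` have flat modules of global sections. -/
def FlatTwists (L G : X.Modules) : Prop :=
  G.IsQuasicoherent ∧ ∀ n : ℕ,
    letI := secModule φ (CohB1.tensorMod G (CohB1.tensorPow L n)) ⊤
    Module.Flat A Γ(CohB1.tensorMod G (CohB1.tensorPow L n), ⊤)

variable {φ}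

theorem FlatTwists.flat {G : X.Modules} (hG : FlatTwists φ L G) :
    letI := secModule φ G ⊤
    Module.Flat A Γ(G, ⊤) := by
  letI := secModule φ G ⊤
  letI := secModule φ (CohB1.tensorMod G (CohB1.tensorPow L 0)) ⊤
  have := hG.2 0
  let e : G ≅ CohB1.tensorMod G (CohB1.tensorPow L 0) := (SecTwist.unitorR G).symm
  exact Module.Flat.of_linearEquiv (isoLin φ e ⊤)

theorem nonempty_twist_twist (L G : X.Modules) (m n : ℕ) :
    Nonempty (CohB1.tensorMod (CohB1.tensorMod G (CohB1.tensorPow L m)) (CohB1.tensorPow L n) ≅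
      CohB1.tensorMod G (CohB1.tensorPow L (m + n))) :=
  ⟨(exists_associator G _ _).choose ≪≫
    PicGrp.tensorModIso (Iso.refl G) (tensorPow_add L m n).some.symm⟩

theorem flatTwists_twist (hL : PicF.IsInvertible L) {G : X.Modules} [G.IsQuasicoherent] (m : ℕ)
    (h : ∀ n : ℕ,
      letI := secModule φ (CohB1.tensorMod G (CohB1.tensorPow L (m + n))) ⊤
      Module.Flat A Γ(CohB1.tensorMod G (CohB1.tensorPow L (m + n)), ⊤)) :
    FlatTwists φ L (CohB1.tensorMod G (CohB1.tensorPow L m)) := by
  have := isQCoh_of_isInvertible (isInvertible_tensorPow hL m)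
  refine ⟨QCohMod.isQCoh_tensorMod, fun n => ?_⟩
  obtain ⟨e⟩ := nonempty_twist_twist L G m n
  letI := secModule φ (CohB1.tensorMod G (CohB1.tensorPow L (m + n))) ⊤
  letI := secModule φ
    (CohB1.tensorMod (CohB1.tensorMod G (CohB1.tensorPow L m)) (CohB1.tensorPow L n)) ⊤
  have := h n
  exact Module.Flat.of_linearEquiv (isoLin φ e ⊤)

theorem FlatTwists.twist (hL : PicF.IsInvertible L) {G : X.Modules} (hG : FlatTwists φ L G)
    (m : ℕ) : FlatTwists φ L (CohB1.tensorMod G (CohB1.tensorPow L m)) :=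
  have := hG.1
  flatTwists_twist hL m fun _ => hG.2 _

variable [CompactSpace X] [QuasiSeparatedSpace X]

/-- Finitely many sections over `X_s` extend simultaneously after a twist. -/
theorem exists_lift (hL : PicF.IsInvertible L) : ∀ (k : ℕ) (G : X.Modules), FlatTwists φ L G →
    ∀ t : Fin k → Γ(G, CohB1.genLocus L s), ∃ G' : X.Modules, FlatTwists φ L G' ∧
      letI := secModule φ G (CohB1.genLocus L s)
      letI := secModule φ G' (CohB1.genLocus L s)
      ∃ (ψ : Γ(G, CohB1.genLocus L s) →ₗ[A] Γ(G', CohB1.genLocus L s)) (χ : Γ(G, ⊤) → Γ(G', ⊤)),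
        Function.Bijective ψ ∧ (∀ x, res G' le_top (χ x) = ψ (res G le_top x)) ∧
        ∀ i, ∃ t', res G' le_top t' = ψ (t i)
  | 0, G, hG, _ => by
      letI := secModule φ G (CohB1.genLocus L s)
      exact ⟨G, hG, LinearMap.id, id, Function.bijective_id, fun _ => rfl, fun i => i.elim0⟩
  | k + 1, G, hG, t => by
      have := hG.1
      obtain ⟨n, -, t₀, ht₀⟩ := exists_twist_eq_res hL s G (t 0)
      rw [tw_eq] at ht₀
      let G₁ := CohB1.tensorMod G (CohB1.tensorPow L n)
      letI := secModule φ G (CohB1.genLocus L s)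
      letI := secModule φ G₁ (CohB1.genLocus L s)
      let τ : Γ(G, CohB1.genLocus L s) →ₗ[A] Γ(G₁, CohB1.genLocus L s) :=
        twistLin s φ G n (CohB1.genLocus L s)
      obtain ⟨G', hG', ψ, χ, hψ, hχ, hlift⟩ :=
        exists_lift hL k G₁ (hG.twist hL n) fun i => τ (t i.succ)
      letI := secModule φ G' (CohB1.genLocus L s)
      refine ⟨G', hG', ψ.comp τ, fun x => χ (tw s G n ⊤ x),
        hψ.comp (twist_bijective s G n le_rfl), fun x => ?_,
        Fin.cases ⟨χ t₀, ?_⟩ fun i => hlift i⟩
      · rw [hχ, res_tw]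
        rfl
      · rw [hχ, ht₀]
        rfl

/-- If the global sections of all high twists are flat over `A`, then so are the sections
over `X_s`. -/
theorem flat_sections_genLocus (hL : PicF.IsInvertible L) (G : X.Modules) [G.IsQuasicoherent]
    (h : ∃ N : ℕ, ∀ n : ℕ, N ≤ n →
      letI := secModule φ (CohB1.tensorMod G (CohB1.tensorPow L n)) ⊤
      Module.Flat A Γ(CohB1.tensorMod G (CohB1.tensorPow L n), ⊤)) :
    letI := secModule φ G (CohB1.genLocus L s)
    Module.Flat A Γ(G, CohB1.genLocus L s) := by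
  obtain ⟨N, hN⟩ := h
  let W := CohB1.genLocus L s
  letI := secModule φ G W
  refine Module.Flat.iff_forall_isTrivialRelation.2 fun {l f x} hx => ?_
  let G₀ := CohB1.tensorMod G (CohB1.tensorPow L N)
  have hG₀ : FlatTwists φ L G₀ := flatTwists_twist hL N fun _ => hN _ (Nat.le_add_right _ _)
  letI := secModule φ G₀ W
  let ψ₀ : Γ(G, W) →ₗ[A] Γ(G₀, W) := twistLin s φ G N W
  obtain ⟨G', hG', ψ, -, hψ, -, hlift⟩ := exists_lift s hL l G₀ hG₀ fun i => ψ₀ (x i)
  choose x' hx' using hlift
  letI := secModule φ G' W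
  letI := secModule φ G' ⊤
  have := hG'.1
  let Ψ : Γ(G, W) →ₗ[A] Γ(G', W) := ψ.comp ψ₀
  have hΨ : Function.Bijective Ψ := hψ.comp (twist_bijective s G N le_rfl)
  let r : Γ(G', ⊤) →ₗ[A] Γ(G', W) := resLin φ G' le_top
  have hrel : r (∑ i, f i • x' i) = 0 := by
    have e : ∀ i, r (x' i) = Ψ (x i) := hx'
    rw [map_sum]
    simp only [map_smul, e]
    rw [← map_zero Ψ, ← hx, map_sum]
    simp only [map_smul]
  obtain ⟨m, -, hm⟩ := exists_twist_eq_zero hL s G' (∑ i, f i • x' i) hrel
  let G'' := CohB1.tensorMod G' (CohB1.tensorPow L m)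
  letI := secModule φ G'' ⊤
  letI := secModule φ G'' W
  have : Module.Flat A Γ(G'', ⊤) := hG'.2 m
  let τ : Γ(G', ⊤) →ₗ[A] Γ(G'', ⊤) := twistLin s φ G' m ⊤
  let τW : Γ(G', W) →ₗ[A] Γ(G'', W) := twistLin s φ G' m W
  let r' : Γ(G'', ⊤) →ₗ[A] Γ(G'', W) := resLin φ G'' le_top
  have hτ0 : ∑ i, f i • τ (x' i) = 0 := by
    simp only [← map_smul]
    rw [← map_sum]
    exact (tw_eq s G' m ⊤ _).symm.trans hm
  obtain ⟨k, a, y, hy, hay⟩ := Module.Flat.isTrivialRelation_of_sum_smul_eq_zero hτ0
  let E : Γ(G, W) ≃ₗ[A] Γ(G'', W) := LinearEquiv.ofBijective (τW.comp Ψ)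
    ((twist_bijective s G' m le_rfl).comp hΨ)
  refine ⟨k, a, fun j => E.symm (r' (y j)), fun i => E.injective ?_, hay⟩
  rw [map_sum]
  simp only [map_smul, LinearEquiv.apply_symm_apply]
  rw [← show r' (∑ j, a i j • y j) = ∑ j, a i j • r' (y j) from by
    rw [map_sum]; simp only [map_smul], ← hy i]
  change τW (Ψ (x i)) = _
  rw [← show r (x' i) = Ψ (x i) from hx' i]
  exact (res_tw s G' m le_top (x' i)).symm

end Groth.FlatTwist
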